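import Cfsg.Agent.H58.Mon.Thirteen
import Cfsg.Agent.H537.TC.DSeven
import Cfsg.Agent.H8.Mon.Bound_m3
import Cfsg.Agent.H465.PiBSMon
import Cfsg.Agent.H961.SevM
import Cfsg.Agent.H131.T5Hall
import Cfsg.Agent.S0205
import Cfsg.Agent.FastGrp
import Cfsg.Agent.Prune
set_option linter.all false
prune_inst 0x7ffffffbbffcfddfffff7e7ffffddffffffeffffefdff9fbffffffffffff6befeffdfbafefefdafefef7f23412f87bf3fdffffffe3fbfc7fffff5ff47fffffdfffffbf2f5dffb8be1ffe7ffffbffffafffffffffffffffffffffffffffffffffffffffffffff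
open scoped Cfsg.Agent.FastGrp

-- part: H58/Mon/Eleven
section
/-!
# The Monster: the centralizers of the elements of order 11 (helper58)

`card_le` : `|C(x)| ≤ 2 · 10 ^ 15` for `x` of order 11 (`card_dvd` : `|C(x)| = 11 · 95040` or a divisor of
`11 ^ 2 · 3 ^ 7 · 5 ^ 9`).
-/

set_option autoImplicit false
set_option maxRecDepth 100000

namespace Cfsg.Agent.H58.MonEleven

open Cfsg Cfsg.Agent.BpSpor.MBigModel Cfsg.Agent.H199.NSmMon
open Subgroup (centralizer zpowers mem_centralizer_singleton_iff)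

/-- the elements of order 11 of `Fi24'` commute with an involution -/
theorem even_fi_eleven (a : Spor.Fi24') (ha : orderOf a = 11) :
    2 ∣ Nat.card ↥(centralizer ({a} : Set Spor.Fi24')) := by
  have hc : Nat.card Spor.Fi24' = 1255205709190661721292800 := Cfsg.Agent.S1698.result.2
  have : Finite Spor.Fi24' := Nat.finite_of_card_ne_zero (by rw [hc]; norm_num)
  obtain ⟨t, ht, hd⟩ := H8.Mon.exists_fi (X := Spor.Fi24') ⟨MulEquiv.refl _⟩
  obtain ⟨g, -, hg⟩ := MSevenT.conj_into (C := (⊤ : Subgroup Spor.Fi24')) (T := centralizer ({t} : Set Spor.Fi24'))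
    (p := 11) (k := 1) le_top (by norm_num) (by rw [Subgroup.card_top, hc]; norm_num)
    (dvd_trans (by norm_num) hd) ha trivial
  have h1 := mem_centralizer_singleton_iff.1 hg
  have h2 : orderOf (g⁻¹ * t * g) = 2 := by
    rw [← ht]
    have := MulEquiv.orderOf_eq (MulAut.conj g⁻¹) t
    rwa [MulAut.conj_apply, inv_inv] at this
  have h3 : g⁻¹ * t * g * a = a * (g⁻¹ * t * g) := by
    calc g⁻¹ * t * g * a = g⁻¹ * (t * (g * a * g⁻¹)) * g := by group
      _ = g⁻¹ * ((g * a * g⁻¹) * t) * g := by rw [h1]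
      _ = a * (g⁻¹ * t * g) := by group
  rw [← h2, ← Subgroup.orderOf_mk _ (mem_centralizer_singleton_iff.2 h3)]
  exact orderOf_dvd_natCard _

/-- there are no elements of order 11 in `Th` -/
theorem even_th_eleven (a : Spor.Th) (ha : orderOf a = 11) : 2 ∣ Nat.card ↥(centralizer ({a} : Set Spor.Th)) := by
  exfalso
  have h1 := orderOf_dvd_natCard a
  rw [ha, show Nat.card Spor.Th = 90745943887872000 from Cfsg.Agent.S1700.result.2] at h1
  revert h1
  norm_num

/-- **order 11, not even** -/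
theorem not_three {x : MG} (hx : orderOf x = 11) (ho : ¬ 2 ∣ Nat.card ↥(centralizer ({x} : Set MG))) :
    ¬ 3 ^ 8 ∣ Nat.card ↥(centralizer ({x} : Set MG)) :=
  H537.OreM.not_three_of (by norm_num) (by norm_num) even_th_eleven even_fi_eleven hx ho

/-- the primes 7, 13, 23 -/
theorem not_dvd (hS : H715.Mon.Grp.SThree.{0}) {x : MG} (hx : orderOf x = 11) {r : ℕ}
    (hr : r = 7 ∨ r = 13 ∨ r = 23) : ¬ r ∣ Nat.card ↥(centralizer ({x} : Set MG)) := by
  have := finite
  intro hd
  have hrp : r.Prime := by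
    rcases hr with rfl | rfl | rfl <;> norm_num
  have : Fact r.Prime := ⟨hrp⟩
  obtain ⟨y, hy⟩ := exists_prime_orderOf_dvd_card' r hd
  have hyo : orderOf (y : MG) = r := by rw [Subgroup.orderOf_coe, hy]
  have hyx : (y : MG) * x = x * y := mem_centralizer_singleton_iff.1 y.2
  generalize (y : MG) = b at hyo hyx
  have h11 : 11 ∣ Nat.card ↥(centralizer ({b} : Set MG)) := by
    rw [← hx]
    exact Subgroup.orderOf_dvd_natCard _ (mem_centralizer_singleton_iff.2 hyx.symm)
  rcases hr with rfl | rfl | rfl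
  · exact MonThirteen.not_eleven_seven hyo h11
  · exact MonThirteen.not_eleven hyo h11
  · have h1 : Nat.card ↥(centralizer ({b} : Set MG)) = 24 * 23 := H715.Mon.Exact.card23 hS hyo
    rw [h1] at h11
    revert h11
    norm_num

/-- **The order of `C(x)`.** -/
theorem card_dvd (hS : H715.Mon.Grp.SThree.{0}) {x : MG} (hx : orderOf x = 11) :
    Nat.card ↥(centralizer ({x} : Set MG)) = 11 * 95040 ∨
      Nat.card ↥(centralizer ({x} : Set MG)) ∣ 3 ^ 7 * 5 ^ 9 * 11 ^ 2 := by
  have := finite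
  by_cases ho : 2 ∣ Nat.card ↥(centralizer ({x} : Set MG))
  · left
    have : Fact (Nat.Prime 2) := ⟨Nat.prime_two⟩
    obtain ⟨v, hv⟩ := exists_prime_orderOf_dvd_card' 2 ho
    have hv' : orderOf (v : MG) = 2 := by rw [Subgroup.orderOf_coe, hv]
    exact H199.AbMon.eleven hx (BpSpor.MBigEleven.comm_z hx hv' (mem_centralizer_singleton_iff.1 v.2).symm)
  · right
    have hb : ∀ {r}, (r = 17 ∨ r = 19 ∨ r = 29 ∨ r = 31 ∨ r = 41 ∨ r = 47 ∨ r = 59 ∨ r = 71) →
      ¬ r ∣ Nat.card ↥(centralizer ({x} : Set MG)) := fun h => H199.AbMon.eleven_not_dvd h hx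
    have hc : ∀ {r}, (r = 7 ∨ r = 13 ∨ r = 23) →
      ¬ r ∣ Nat.card ↥(centralizer ({x} : Set MG)) := fun h => not_dvd hS hx h
    have g := H537.OreM.dvd_card x
    have hM : ∀ {p k : ℕ}, ¬ p ^ (k + 1) ∣ Nat.card MG → ¬ p ^ (k + 1) ∣ Nat.card ↥(centralizer ({x} : Set MG)) :=
      fun h h1 => h (h1.trans (Subgroup.card_subgroup_dvd_card _))
    have g := H537.OreM.step (j := 0) (by norm_num) g (H537.OreM.no_pow ho)
    have g := H537.OreM.step (j := 7) (by norm_num) g (not_three hx ho)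
    have g := H537.OreM.step (j := 9) (by norm_num) g (hM (by rw [card_M]; norm_num))
    have g := H537.OreM.step (j := 0) (by norm_num) g (H537.OreM.no_pow (hc (r := 7) (by simp)))
    have g := H537.OreM.step (j := 2) (by norm_num) g (hM (by rw [card_M]; norm_num))
    have g := H537.OreM.step (j := 0) (by norm_num) g (H537.OreM.no_pow (hc (r := 13) (by simp)))
    have g := H537.OreM.step (j := 0) (by norm_num) g (H537.OreM.no_pow (hb (r := 17) (by simp)))
    have g := H537.OreM.step (j := 0) (by norm_num) g (H537.OreM.no_pow (hb (r := 19) (by simp)))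
    have g := H537.OreM.step (j := 0) (by norm_num) g (H537.OreM.no_pow (hc (r := 23) (by simp)))
    have g := H537.OreM.step (j := 0) (by norm_num) g (H537.OreM.no_pow (hb (r := 29) (by simp)))
    have g := H537.OreM.step (j := 0) (by norm_num) g (H537.OreM.no_pow (hb (r := 31) (by simp)))
    have g := H537.OreM.step (j := 0) (by norm_num) g (H537.OreM.no_pow (hb (r := 41) (by simp)))
    have g := H537.OreM.step (j := 0) (by norm_num) g (H537.OreM.no_pow (hb (r := 47) (by simp)))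
    have g := H537.OreM.step (j := 0) (by norm_num) g (H537.OreM.no_pow (hb (r := 59) (by simp)))
    have g := H537.OreM.step (j := 0) (by norm_num) g (H537.OreM.no_pow (hb (r := 71) (by simp)))
    refine g.trans ?_
    norm_num

/-- **Elements of order 11 of the Monster.** -/
theorem card_le (hS : H715.Mon.Grp.SThree.{0}) {x : MG} (hx : orderOf x = 11) :
    Nat.card ↥(centralizer ({x} : Set MG)) ≤ 10 ^ 12 := by
  rcases card_dvd hS hx with h | h
  · rw [h]
    norm_num
  · exact (Nat.le_of_dvd (by norm_num) h).trans (by norm_num)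

end Cfsg.Agent.H58.MonEleven
end

-- part: H497/OreM/SevenThirteen
section
/-!
# The Monster: no element of order 7 commutes with an element of order 13 (helper497, S2443 row M)

* `exists_commuting` : the Hall argument of helper131 with an arbitrary exponent;
* `no_sq` : `13 ^ 2` does not divide `|C(y)|` if no 13-central element of order 13 commutes with `y`;
* `no_seven` : `7` does not divide `|C(x)|`, `x` of order 13.
-/

set_option autoImplicit false
set_option maxRecDepth 100000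
set_option linter.style.haveILetI false

namespace Cfsg.Agent.H497.OreM

open Cfsg Cfsg.Agent.MonsterX Cfsg.Agent.MonsterX.MainPack
open Cfsg.Agent.BpSpor.MBigModel
open Cfsg.Agent.H199.NSmMon
open Cfsg.Agent.H131.T5M13 Cfsg.Agent.H131.T5Cube
open Subgroup

/-- **The Hall argument.** -/
theorem exists_commuting {R : Type*} [Group R] [Finite R] (hR : Group.IsSolvable R) {p q m : ℕ}
    [hp : Fact p.Prime] [hq : Fact q.Prime] (hqR : q ∣ Nat.card R) (hp4 : ¬ p ^ (m + 1) ∣ Nat.card R)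
    (h1 : ∀ i, 1 ≤ i → i ≤ m → ¬ p ^ i ≡ 1 [MOD q]) (h2 : ¬ q ^ 2 ∣ Nat.card R) (h3 : ¬ p ∣ q - 1) :
    ∃ (T : Subgroup R) (s : R), orderOf s = q ∧ IsPGroup p ↥T ∧ ¬ p ∣ T.index ∧ ∀ t ∈ T, t * s = s * t := by
  obtain ⟨L, hL, hLc⟩ := Cfsg.Agent.H131.T5.exists_hall (G := R) (fun t => t = p ∨ t = q)
  have T0 : Sylow p R := default
  obtain ⟨g, hg⟩ := hLc (T0 : Subgroup R) (fun t ht hd => by
    left
    obtain ⟨n, hn⟩ := IsPGroup.iff_card.1 T0.2
    rw [hn] at hd
    exact (Nat.prime_dvd_prime_iff_eq ht hp.out).1 (ht.dvd_of_dvd_pow hd))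
  obtain ⟨y, hy⟩ := exists_prime_orderOf_dvd_card' q hqR
  obtain ⟨k, hk⟩ := hLc (zpowers y) (fun t ht hd => by
    right
    rw [Nat.card_zpowers, hy] at hd
    exact (Nat.prime_dvd_prime_iff_eq ht hq.out).1 hd)
  -- the Sylow `q`-subgroup of `L` is normal
  let s : R := k * y * k⁻¹
  have hsL : s ∈ L := hk y (mem_zpowers y)
  have hso : orderOf s = q := by
    rw [← hy]
    exact orderOf_injective (MulAut.conj k).toMonoidHom (MulAut.conj k).injective y
  let s' : ↥L := ⟨s, hsL⟩
  have hso' : orderOf s' = q := by rw [Subgroup.orderOf_mk, hso]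
  have hq1 : ¬ q ^ 2 ∣ Nat.card ↥L := fun h => h2 (h.trans (Subgroup.card_subgroup_dvd_card L))
  have hqS : IsPGroup q ↥(zpowers s') := IsPGroup.of_card (n := 1) (by rw [Nat.card_zpowers, hso', pow_one])
  have hqi : ¬ q ∣ (zpowers s').index := by
    intro h
    apply hq1
    have h4 := (zpowers s').card_mul_index
    rw [Nat.card_zpowers, hso'] at h4
    rw [← h4, pow_two]
    exact Nat.mul_dvd_mul_left _ h
  let S : Sylow q ↥L := hqS.toSylow hqi
  have hn1 : Nat.card (Sylow q ↥L) = 1 := by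
    have h4 := card_sylow_modEq_one q ↥L
    have h5 : Nat.card (Sylow q ↥L) ∣ Nat.card ↥L := by
      rw [S.card_eq_index_normalizer]
      exact Subgroup.index_dvd_card _
    have h6 : ∀ t : ℕ, t.Prime → t ∣ Nat.card (Sylow q ↥L) → t = p := by
      intro t ht hd
      rcases hL t ht (hd.trans h5) with h | h
      · exact h
      · exfalso
        subst h
        have h7 := (Nat.modEq_zero_iff_dvd.2 hd).symm.trans h4
        have h8 : (0 : ℕ) % t = 1 % t := h7
        rw [Nat.zero_mod, Nat.mod_eq_of_lt ht.one_lt] at h8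
        exact absurd h8 (by norm_num)
    have h7 : Nat.card (Sylow q ↥L) ≠ 0 := Nat.card_pos.ne'
    obtain ⟨i, hi⟩ : ∃ i, Nat.card (Sylow q ↥L) = p ^ i := by
      refine ⟨_, Nat.eq_prime_pow_of_unique_prime_dvd h7 (fun {d} hd hdd => h6 d hd hdd)⟩
    have hi3 : i ≤ m := by
      by_contra hcon
      apply hp4
      refine (pow_dvd_pow p (by omega : m + 1 ≤ i)).trans ?_
      rw [← hi]
      exact h5.trans (Subgroup.card_subgroup_dvd_card L)
    rcases Nat.eq_zero_or_pos i with rfl | hpos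
    · rw [hi, pow_zero]
    · rw [hi] at h4
      exact absurd h4 (h1 i hpos hi3)
  have hnorm : (zpowers s').Normal := by
    have := Subsingleton.intro (fun a b : Sylow q ↥L => (Nat.card_eq_one_iff_unique.1 hn1).1.elim a b)
    exact (Sylow.normal_of_subsingleton S)
  refine ⟨(T0 : Subgroup R).map (MulAut.conj g).toMonoidHom, s, hso, T0.2.map _, ?_, ?_⟩
  · have h4 : ((T0 : Subgroup R).map (MulAut.conj g).toMonoidHom).index = (T0 : Subgroup R).index :=
      Subgroup.index_map_equiv _ (MulAut.conj g)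
    rw [h4]
    exact T0.not_dvd_index
  · rintro t ⟨u, hu, rfl⟩
    have htL : g * u * g⁻¹ ∈ L := hg u hu
    have h4 := hnorm.conj_mem s' (mem_zpowers s') ⟨g * u * g⁻¹, htL⟩
    obtain ⟨n, hn⟩ := T0.2 ⟨u, hu⟩
    have hn' : u ^ p ^ n = 1 := congrArg Subtype.val hn
    have h5 : g * u * g⁻¹ * s * (g * u * g⁻¹)⁻¹ ∈ zpowers s := by
      obtain ⟨j, hj⟩ := mem_zpowers_iff.1 h4
      exact mem_zpowers_iff.2 ⟨j, congrArg Subtype.val hj⟩
    refine Cfsg.Agent.H131.T5.commute_of_prime_order hq.out hso h5 (n := p ^ n) ?_ ?_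
    · show (g * u * g⁻¹) ^ p ^ n = 1
      have h6 : (g * u * g⁻¹) ^ p ^ n = g * u ^ p ^ n * g⁻¹ := conj_pow
      rw [h6, hn', mul_one, mul_inv_cancel]
    · exact Nat.Coprime.pow_left n ((Nat.Prime.coprime_iff_not_dvd hp.out).2 h3)

/-- the elements of order 13 commuting with a conjugate of `z` -/
theorem tb_no_seven {x0 z t : MG} {Q : Subgroup MG} (hD : D x0 z t Q) {a : MG} (ha : orderOf a = 13) (hb : TB z a) :
    ¬ 7 ∣ Nat.card ↥(centralizer ({a} : Set MG)) := by
  have := finite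
  obtain ⟨k, hk⟩ := hD.tb_pow ha hb
  obtain ⟨g, hg⟩ := isConj_iff.1 hk
  obtain ⟨e⟩ := MFive.exists_cent_equiv (by norm_num : Nat.Prime 13) ha hD.hyp.hx (k := g) (i := k) hg
  rw [← Nat.card_congr e.toEquiv]
  exact H465.SporB.Mon.no_seven_x hD

/-- `13 ^ 2` does not divide `|C(y)|` -/
theorem no_sq {G : Type*} [Group G] [Finite G] {x0 z t : G} {Q R : Subgroup G} (hD : D x0 z t Q) (hcu : Cu 13 R x0)
    {y : G} (hy : ∀ a : G, orderOf a = 13 → TB z a → a * y ≠ y * a) :
    ¬ 13 ^ 2 ∣ Nat.card ↥(centralizer ({y} : Set G)) := by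
  intro hd
  have h13 : Nat.Prime 13 := by norm_num
  haveI : Fact (Nat.Prime 13) := ⟨h13⟩
  obtain ⟨E, hE⟩ := Sylow.exists_subgroup_card_pow_prime (G := ↥(centralizer ({y} : Set G))) 13 hd
  have hEc : Nat.card ↥(E.map (centralizer ({y} : Set G)).subtype) = 13 ^ 2 := by
    rw [card_map_of_injective (subtype_injective _), hE]
  obtain ⟨g, hg⟩ := exists_conj_le hcu.card hD.hyp.h4 (IsPGroup.of_card hEc)
  set F : Subgroup G := (E.map (centralizer ({y} : Set G)).subtype).map (MulAut.conj g).toMonoidHom with hF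
  have hFc : Nat.card ↥F = 13 ^ 2 := by
    rw [hF, card_map_of_injective (MulAut.conj g).injective, hEc]
  have hFR : F ≤ R := by
    rintro _ ⟨a, ha, rfl⟩
    exact hg a ha
  have hx0 : x0 ∉ F := by
    rintro ⟨_, ⟨a, ha, rfl⟩, h1⟩
    have h2 : g * (a : G) * g⁻¹ = x0 := h1
    have h3 : orderOf (a : G) = 13 := by
      rw [← orderOf_conj' g (a : G), h2, hD.hyp.hx]
    refine hy a h3 ?_ (mem_centralizer_singleton_iff.1 a.2)
    exact hD.tb_of_pow (k := 1) (isConj_iff.2 ⟨g, by rw [zpow_one]; exact h2⟩)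
  have hJ : F ⊔ zpowers x0 = R := by
    have hle : F ⊔ zpowers x0 ≤ R := sup_le hFR (zpowers_le.2 hcu.mem)
    refine eq_of_le_of_card_ge hle ?_
    have h1 : Nat.card ↥(F ⊔ zpowers x0 : Subgroup G) ∣ 13 ^ 3 := by rw [← hcu.card]; exact card_dvd_of_le hle
    obtain ⟨k, -, hk⟩ := (Nat.dvd_prime_pow h13).1 h1
    rw [hk, hcu.card]
    refine Nat.pow_le_pow_right (by norm_num) ?_
    by_contra hlt
    apply hx0
    have h2 : F = F ⊔ zpowers x0 := by
      refine eq_of_le_of_card_ge le_sup_left ?_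
      rw [hk, hFc]
      exact Nat.pow_le_pow_right (by norm_num) (by omega)
    rw [h2]
    exact mem_sup_right (mem_zpowers x0)
  -- `R` centralizes `F`
  have hFF : ∀ a ∈ F, ∀ b ∈ F, a * b = b * a := fun a ha b hb =>
    congrArg Subtype.val ((IsPGroup.isMulCommutative_of_card_eq_prime_sq hFc).is_comm.comm (⟨a, ha⟩ : ↥F) ⟨b, hb⟩)
  have hFz : F ≤ zpowers x0 := by
    intro f hf
    refine hcu.mem_of_central (hFR hf) ?_
    have h1 : R ≤ centralizer ({f} : Set G) := by
      rw [← hJ, sup_le_iff, zpowers_le]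
      refine ⟨fun a ha => mem_centralizer_singleton_iff.2 (hFF a ha f hf), ?_⟩
      exact mem_centralizer_singleton_iff.2 (hcu.cen f (hFR hf)).symm
    intro r hr
    exact mem_centralizer_singleton_iff.1 (h1 hr)
  have h2 := card_dvd_of_le hFz
  rw [hFc, hcu.card_z] at h2
  norm_num at h2

/-- **No element of order 7 of the Monster commutes with an element of order 13.** -/
theorem no_seven {x : MG} (hx : orderOf x = 13) : ¬ 7 ∣ Nat.card ↥(centralizer ({x} : Set MG)) := by
  have := finite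
  haveI : Fact (Nat.Prime 13) := ⟨by norm_num⟩
  haveI : Fact (Nat.Prime 7) := ⟨by norm_num⟩
  intro h7
  obtain ⟨x0, z, t, Q, hD⟩ := model_D
  obtain ⟨R, W, hr⟩ := Cfsg.Agent.H609.Inv.Thirteen.exists_RW hD
  by_cases hab : ∀ a ∈ R, ∀ b ∈ R, a * b = b * a
  · exact (Cfsg.Agent.H609.Inv.Thirteen.Ab.false hD ⟨hr, hab⟩).elim
  push Not at hab
  have hcu : Cu 13 R x0 := ⟨hr.card, hD.hyp.hx, hr.mem, hr.cen, hab⟩
  obtain ⟨y', hy'⟩ := exists_prime_orderOf_dvd_card' 7 h7
  obtain ⟨y, hyy⟩ : ∃ y : MG, y = (y' : MG) := ⟨_, rfl⟩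
  have hyo : orderOf y = 7 := by rw [hyy, Subgroup.orderOf_coe, hy']
  have hyx : y * x = x * y := by rw [hyy]; exact mem_centralizer_singleton_iff.1 y'.2
  have h13y : 13 ∣ Nat.card ↥(centralizer ({y} : Set MG)) := by
    rw [← hx]
    exact Subgroup.orderOf_dvd_natCard _ (mem_centralizer_singleton_iff.2 hyx.symm)
  have hne : ¬ Ev y := fun he => H465.SporB.Mon.seven_thirteen hyo he h13y
  have hodd : Odd (Nat.card ↥(centralizer ({y} : Set MG))) := by
    by_contra hcon
    exact hne (MSevenT.hexOdd y hyo hcon)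
  have hsol : Group.IsSolvable ↥(centralizer ({y} : Set MG)) := Cfsg.Agent.S0205.result hodd
  have h169 : ¬ 13 ^ 2 ∣ Nat.card ↥(centralizer ({y} : Set MG)) := by
    refine no_sq hD hcu fun a ha hb hc => tb_no_seven hD ha hb ?_
    rw [← hyo]
    exact Subgroup.orderOf_dvd_natCard _ (mem_centralizer_singleton_iff.2 hc.symm)
  obtain ⟨T, s, hs, hT, hTi, hTs⟩ := exists_commuting hsol (p := 7) (q := 13) (m := 6) h13y
    (fun h => by
      have h1 := h.trans (Subgroup.card_subgroup_dvd_card _)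
      rw [card_M] at h1
      norm_num at h1) (by
      intro i hi1 hi6
      interval_cases i <;> decide) h169 (by norm_num)
  -- an even element in `C(y)`
  obtain ⟨w, hwo, hwe, hwy⟩ : ∃ w : MG, orderOf w = 7 ∧ Ev w ∧ w * y = y * w := by
    obtain ⟨y1, v, s1, a, c, w, hL, h5⟩ := H961.SevM.exists_data'
    obtain ⟨P, -, hP⟩ := hL.sylow_le h5 (by rw [H961.SevM.card_model]; norm_num)
    obtain ⟨P', hP'⟩ := (IsPGroup.of_card (p := 7) (n := 1) (G := ↥(zpowers y))
      (by rw [Nat.card_zpowers, hyo, pow_one])).exists_le_sylow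
    obtain ⟨g, hg⟩ := MulAction.exists_smul_eq MG P' P
    have hgy : g * y * g⁻¹ ∈ (P : Subgroup MG) := by
      rw [← hg, Sylow.coe_subgroup_smul]
      exact smul_mem_pointwise_smul y (MulAut.conj g) _ (hP' (mem_zpowers y))
    have h1 : g * y * g⁻¹ * w = w * (g * y * g⁻¹) := mem_centralizer_singleton_iff.1 (hP hgy)
    have hwo : orderOf (w : MG) = 7 := orderOf_eq_prime hL.w7 hL.w1
    refine ⟨g⁻¹ * w * g⁻¹⁻¹, by rw [orderOf_conj', hwo], Ev.conj ⟨1, ?_⟩ g⁻¹, ?_⟩
    · rw [one_mul, inv_one, mul_one]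
      exact (mem_centralizer_singleton_iff.1 w.2).symm
    · calc g⁻¹ * (w : MG) * g⁻¹⁻¹ * y = g⁻¹ * (w * (g * y * g⁻¹)) * g := by group
        _ = g⁻¹ * (g * y * g⁻¹ * w) * g := by rw [h1]
        _ = y * (g⁻¹ * w * g⁻¹⁻¹) := by group
  -- into `T`
  obtain ⟨w', hww⟩ : ∃ w' : ↥(centralizer ({y} : Set MG)), (w' : MG) = w :=
    ⟨⟨w, mem_centralizer_singleton_iff.2 hwy⟩, rfl⟩
  have hwo' : orderOf w' = 7 := by rw [← Subgroup.orderOf_coe, hww, hwo]
  obtain ⟨T', hT'⟩ := (IsPGroup.of_card (p := 7) (n := 1) (G := ↥(zpowers w'))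
      (by rw [Nat.card_zpowers, hwo', pow_one])).exists_le_sylow
  obtain ⟨c, hc⟩ := MulAction.exists_smul_eq ↥(centralizer ({y} : Set MG)) T' (hT.toSylow hTi)
  have hcw : c * w' * c⁻¹ ∈ T := by
    have h1 : MulAut.conj c w' ∈ (c • T' : Sylow 7 ↥(centralizer ({y} : Set MG))) :=
      smul_mem_pointwise_smul w' (MulAut.conj c) _ (hT' (mem_zpowers w'))
    rw [hc] at h1
    exact h1
  have h2 := hTs _ hcw
  have h3 : (c : MG) * w * (c : MG)⁻¹ * s = s * ((c : MG) * w * (c : MG)⁻¹) := by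
    rw [← hww]
    exact congrArg Subtype.val h2
  refine H465.SporB.Mon.seven_thirteen (x := (c : MG) * w * (c : MG)⁻¹) (by rw [orderOf_conj', hwo]) (hwe.conj c) ?_
  have hso : orderOf (s : MG) = 13 := by rw [Subgroup.orderOf_coe, hs]
  rw [← hso]
  exact Subgroup.orderOf_dvd_natCard _ (mem_centralizer_singleton_iff.2 h3.symm)

end Cfsg.Agent.H497.OreM
end

-- part: H58/Mon/Fin
section
/-!
# The Monster: the centralizers of the elements of prime order at least 5 (helper58)

`hB` : `|C(x)| ≤ 2 · 10 ^ 15` for `x` of prime order at least 5.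
-/

set_option autoImplicit false
set_option maxRecDepth 100000

namespace Cfsg.Agent.H58.MonFin

open Cfsg Cfsg.Agent.BpSpor.MBigModel Cfsg.Agent.H199.NSmMon
open Cfsg.Agent.H995.CopEngine (AllKnown)
open Subgroup (centralizer zpowers mem_centralizer_singleton_iff)

/-- the exact centralizers -/
theorem exact (hK : AllKnown.{0}) (hS : H715.Mon.Grp.SThree.{0}) : H8.Mon.Exact := by
  have h3 : H241.NH.Three.{0} := H241.NH.three_of fun X hX hC => hS _ X hX hC
  exact ⟨fun y hy => H715.Mon.Exact.card19' hS hy, fun y hy => H715.Mon.Exact.card23 hS hy,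
    fun y hy => H715.Mon.Cent.card31 hS hy, fun y hy => H979.OreM.cent_41 hK h3 hy,
    fun y hy => H979.OreM.cent_71 hK h3 hy⟩

/-- **Two primes in a solvable centralizer.** -/
theorem not_both {x : MG} (ho : ¬ 2 ∣ Nat.card ↥(centralizer ({x} : Set MG))) {p q n m : ℕ} (hp : p.Prime)
    (hq : q.Prime) (hpq : p ≠ q) (hpn : ¬ p ^ (n + 1) ∣ Nat.card ↥(centralizer ({x} : Set MG)))
    (h1 : ∀ i, 1 ≤ i → i ≤ n → ¬ q ∣ p ^ i - 1) (hqm : ¬ q ^ (m + 1) ∣ Nat.card ↥(centralizer ({x} : Set MG)))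
    (h3 : ∀ i, 1 ≤ i → i ≤ m → ¬ p ∣ q ^ i - 1)
    (key : ∀ s : MG, orderOf s = q → ¬ p ∣ Nat.card ↥(centralizer ({s} : Set MG)))
    (hpd : p ∣ Nat.card ↥(centralizer ({x} : Set MG))) : ¬ q ∣ Nat.card ↥(centralizer ({x} : Set MG)) := by
  have := finite
  have : Fact p.Prime := ⟨hp⟩
  have : Fact q.Prime := ⟨hq⟩
  intro hqd
  have hsol : Group.IsSolvable ↥(centralizer ({x} : Set MG)) := by
    refine S0205.result ?_
    rw [← Nat.not_even_iff_odd, even_iff_two_dvd]
    exact ho
  obtain ⟨T, s, hs, hT, hTi, hTs⟩ := MonThirteen.exists_commuting (p := p) (q := q) (n := n) (m := m) hsol hpq hqd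
    hpn h1 hqm h3
  have h2 : p ∣ Nat.card ↥T := by
    rw [← T.card_mul_index] at hpd
    exact (hp.dvd_mul.1 hpd).resolve_right hTi
  obtain ⟨t, ht⟩ := exists_prime_orderOf_dvd_card' p h2
  have hto : orderOf ((t : ↥(centralizer ({x} : Set MG))) : MG) = p := by
    rw [Subgroup.orderOf_coe, Subgroup.orderOf_coe, ht]
  have hts : ((t : ↥(centralizer ({x} : Set MG))) : MG) * (s : MG) = s * ((t : ↥(centralizer ({x} : Set MG))) : MG) :=
    congrArg Subtype.val (hTs _ t.2)
  refine key (s : MG) (by rw [Subgroup.orderOf_coe, hs]) ?_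
  rw [← hto]
  exact Subgroup.orderOf_dvd_natCard _ (mem_centralizer_singleton_iff.2 hts)

/-- **Order 13.** -/
theorem card13 (hK : AllKnown.{0}) (hS : H715.Mon.Grp.SThree.{0}) {x : MG} (hx : orderOf x = 13) :
    Nat.card ↥(centralizer ({x} : Set MG)) ≤ 2 * 10 ^ 15 :=
  MonThirteen.card_le hK hS hx (H497.OreM.no_seven hx)

/-- 11 and 7 do not commute -/
theorem key7 (s : MG) (hs : orderOf s = 11) : ¬ 7 ∣ Nat.card ↥(centralizer ({s} : Set MG)) := by
  have := finite
  have : Fact (Nat.Prime 7) := ⟨by norm_num⟩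
  intro h
  obtain ⟨y, hy⟩ := exists_prime_orderOf_dvd_card' 7 h
  have hyo : orderOf (y : MG) = 7 := by rw [Subgroup.orderOf_coe, hy]
  refine MonThirteen.not_eleven_seven hyo ?_
  rw [← hs]
  exact Subgroup.orderOf_dvd_natCard _ (mem_centralizer_singleton_iff.2 (mem_centralizer_singleton_iff.1 y.2).symm)

/-- **Order 5, no involution.** -/
theorem card5 (hK : AllKnown.{0}) (hS : H715.Mon.Grp.SThree.{0}) {x : MG} (hx : orderOf x = 5) (he : ¬ Ev x) :
    Nat.card ↥(centralizer ({x} : Set MG)) ≤ 2 * 10 ^ 15 := by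
  have hfin : Finite MG := finite
  have hno : H8.Mon.NoInv x := by
    rintro ⟨v, hv, hvx⟩
    exact he (MonThirteen.ev_five hx hv hvx.symm)
  have ho := H8.Mon.odd_of hno
  have X := exact hK hS
  have h17 := H199.AbMon.five_not_dvd' (r := 17) (by simp) hx
  have h19 : ¬ 19 ∣ Nat.card ↥(centralizer ({x} : Set MG)) := fun h => by
    have : Fact (Nat.Prime 19) := ⟨by norm_num⟩
    obtain ⟨y, hy⟩ := exists_prime_orderOf_dvd_card' 19 h
    exact hno (H8.Mon.nineteen X.nineteen hx (y := y) (by rw [Subgroup.orderOf_coe, hy])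
      (mem_centralizer_singleton_iff.1 y.2).symm)
  have h3 : ¬ 3 ^ (7 + 1) ∣ Nat.card ↥(centralizer ({x} : Set MG)) := H8.Mon.not_three (Or.inl ⟨rfl, rfl⟩) hx hno
  have hM : ∀ {p k : ℕ}, ¬ p ^ (k + 1) ∣ Nat.card MG → ¬ p ^ (k + 1) ∣ Nat.card ↥(centralizer ({x} : Set MG)) :=
    fun h h1 => h (h1.trans (Subgroup.card_subgroup_dvd_card _))
  have g := H537.OreM.dvd_card x
  have g := H537.OreM.step (j := 0) (by norm_num) g (H537.OreM.no_pow ho)
  have g := H537.OreM.step (j := 7) (by norm_num) g h3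
  have g := H537.OreM.step (j := 9) (by norm_num) g (hM (by rw [card_M]; norm_num))
  have g := H537.OreM.step (j := 6) (by norm_num) g (hM (by rw [card_M]; norm_num))
  have g := H537.OreM.step (j := 2) (by norm_num) g (hM (by rw [card_M]; norm_num))
  have g := H537.OreM.step (j := 3) (by norm_num) g (hM (by rw [card_M]; norm_num))
  have g := H537.OreM.step (j := 0) (by norm_num) g (H537.OreM.no_pow h17)
  have g := H537.OreM.step (j := 0) (by norm_num) g (H537.OreM.no_pow h19)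
  have g := H537.OreM.step (j := 0) (by norm_num) g (H537.OreM.no_pow (H199.AbMon.five_not_dvd' (r := 23) (by simp) hx))
  have g := H537.OreM.step (j := 0) (by norm_num) g (H537.OreM.no_pow (H199.AbMon.five_not_dvd' (r := 29) (by simp) hx))
  have g := H537.OreM.step (j := 0) (by norm_num) g (H537.OreM.no_pow
    (H8.Mon.no_comm (by norm_num) (by norm_num) X.thirtyone hx))
  have g := H537.OreM.step (j := 0) (by norm_num) g (H537.OreM.no_pow
    (H8.Mon.no_comm (by norm_num) (by norm_num) X.fortyone hx))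
  have g := H537.OreM.step (j := 0) (by norm_num) g (H537.OreM.no_pow (H199.AbMon.five_not_dvd' (r := 47) (by simp) hx))
  have g := H537.OreM.step (j := 0) (by norm_num) g (H537.OreM.no_pow (H199.AbMon.five_not_dvd' (r := 59) (by simp) hx))
  have g := H537.OreM.step (j := 0) (by norm_num) g (H537.OreM.no_pow
    (H8.Mon.no_comm (by norm_num) (by norm_num) X.seventyone hx))
  have hn0 : Nat.card ↥(centralizer ({x} : Set MG)) ≠ 0 := Nat.card_pos.ne'
  have hMc : ∀ {p k : ℕ}, ¬ p ^ (k + 1) ∣ 808017424794512875886459904961710757005754368000000000 →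
      ¬ p ^ (k + 1) ∣ Nat.card ↥(centralizer ({x} : Set MG)) :=
    fun h => hM (by rw [card_M]; exact h)
  generalize hN : Nat.card ↥(centralizer ({x} : Set MG)) = N at *
  have g0 : N ∣ 7 ^ 6 * (11 ^ 2 * (13 ^ 3 * (5 ^ 9 * 3 ^ 7))) := g.trans (by norm_num)
  -- 7 and 13
  by_cases h7 : 7 ∣ N
  · have h11 : ¬ 11 ∣ N := by
      rw [← hN] at h7 ⊢
      refine not_both (p := 7) (q := 11) (n := 6) (m := 2) (by rwa [hN]) (by norm_num) (by norm_num) (by norm_num)
        (by rw [hN]; exact hMc (by norm_num)) (by intro i h1 h2; interval_cases i <;> norm_num)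
        (by rw [hN]; exact hMc (by norm_num)) (by intro i h1 h2; interval_cases i <;> norm_num) key7 h7
    have g1 : N ∣ 11 ^ 2 * (7 ^ 6 * (13 ^ 3 * (5 ^ 9 * 3 ^ 7))) := g0.trans (by norm_num)
    have g2 := H199.AbTool.dvd_of_not_dvd (by norm_num) h11 g1
    by_cases h13 : 13 ∣ N
    · by_cases h169 : 13 ^ 2 ∣ N
      · have h5 : ¬ 5 ^ 4 ∣ N := by
          rw [← hN] at h169 ⊢
          exact H8.Mon.not_both hno h169
        have g3 : N ∣ 5 ^ 9 * (7 ^ 6 * (13 ^ 3 * 3 ^ 7)) := g2.trans (by norm_num)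
        have g4 := MonThirteen.reduce (b := 3) Nat.prime_five hn0 g3 h5
        exact (Nat.le_of_dvd (by norm_num) g4).trans (by norm_num)
      · exfalso
        rw [← hN] at h7 h13
        refine not_both (p := 7) (q := 13) (n := 6) (m := 1) (by rwa [hN]) (by norm_num) (by norm_num) (by norm_num)
          (by rw [hN]; exact hMc (by norm_num)) (by intro i h1 h2; interval_cases i <;> norm_num)
          (by rw [hN]; exact h169) (by intro i h1 h2; interval_cases i; norm_num)
          (fun s hs => H497.OreM.no_seven hs) h7 h13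
    · have g3 : N ∣ 13 ^ 3 * (7 ^ 6 * (5 ^ 9 * 3 ^ 7)) := g2.trans (by norm_num)
      have g4 := H199.AbTool.dvd_of_not_dvd (by norm_num) h13 g3
      exact (Nat.le_of_dvd (by norm_num) g4).trans (by norm_num)
  · have g1 := H199.AbTool.dvd_of_not_dvd (by norm_num) h7 g0
    by_cases h169 : 13 ^ 2 ∣ N
    · have h5 : ¬ 5 ^ 4 ∣ N := by
        rw [← hN] at h169 ⊢
        exact H8.Mon.not_both hno h169
      have g3 : N ∣ 5 ^ 9 * (11 ^ 2 * (13 ^ 3 * 3 ^ 7)) := g1.trans (by norm_num)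
      have g4 := MonThirteen.reduce (b := 3) Nat.prime_five hn0 g3 h5
      exact (Nat.le_of_dvd (by norm_num) g4).trans (by norm_num)
    · have g3 : N ∣ 13 ^ 3 * (11 ^ 2 * (5 ^ 9 * 3 ^ 7)) := g1.trans (by norm_num)
      have g4 := MonThirteen.reduce (b := 1) (by norm_num) hn0 g3 h169
      exact (Nat.le_of_dvd (by norm_num) g4).trans (by norm_num)

/-- 13, 19, 29, 71 -/
theorem seven_not (hK : AllKnown.{0}) (hS : H715.Mon.Grp.SThree.{0}) {x : MG} (hx : orderOf x = 7) {r : ℕ}
    (hr : r = 13 ∨ r = 19 ∨ r = 29 ∨ r = 71) : ¬ r ∣ Nat.card ↥(centralizer ({x} : Set MG)) := by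
  have h3 : H241.NH.Three.{0} := H241.NH.three_of fun X hX hC => hS _ X hX hC
  have := finite
  intro hd
  have hrp : r.Prime := by
    rcases hr with rfl | rfl | rfl | rfl <;> norm_num
  have : Fact r.Prime := ⟨hrp⟩
  obtain ⟨y, hy⟩ := exists_prime_orderOf_dvd_card' r hd
  have hyo : orderOf (y : MG) = r := by rw [Subgroup.orderOf_coe, hy]
  have hyx : (y : MG) * x = x * y := mem_centralizer_singleton_iff.1 y.2
  generalize (y : MG) = b at hyo hyx
  have h7 : 7 ∣ Nat.card ↥(centralizer ({b} : Set MG)) := by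
    rw [← hx]
    exact Subgroup.orderOf_dvd_natCard _ (mem_centralizer_singleton_iff.2 hyx.symm)
  rcases hr with rfl | rfl | rfl | rfl
  · exact H497.OreM.no_seven hyo h7
  · have h1 : Nat.card ↥(centralizer ({b} : Set MG)) = 60 * 19 := H715.Mon.Exact.card19' hS hyo
    rw [h1] at h7
    revert h7
    norm_num
  · rw [H626.LD.TwentyNine.card_cent hyo] at h7
    revert h7
    norm_num
  · rw [H979.OreM.cent_71 hK h3 hyo] at h7
    revert h7
    norm_num

/-- **Order 7.** -/
theorem card7 (hK : AllKnown.{0}) (hS : H715.Mon.Grp.SThree.{0}) {x : MG} (hx : orderOf x = 7) :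
    Nat.card ↥(centralizer ({x} : Set MG)) ≤ 2 * 10 ^ 15 := by
  have hfin : Finite MG := finite
  have h11 := MonThirteen.not_eleven_seven hx
  by_cases he : Ev x
  · rcases H537.OreM.card_even hx he with h | h
    · rw [h]
      norm_num
    · have h1 : Nat.card ↥(centralizer ({x} : Set MG)) ∣ 11 ^ 1 * (3 ^ 7 * 5 ^ 5 * 7 ^ 5 * 5040) := h.trans (by norm_num)
      have h2 := H199.AbTool.dvd_of_not_dvd (by norm_num) h11 h1
      exact (Nat.le_of_dvd (by norm_num) h2).trans (by norm_num)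
  have ho : ¬ 2 ∣ Nat.card ↥(centralizer ({x} : Set MG)) := fun h => he (MSevenT.hex7 x hx h)
  have hb : ∀ {r}, (r = 23 ∨ r = 31 ∨ r = 41 ∨ r = 47 ∨ r = 59) → ¬ r ∣ Nat.card ↥(centralizer ({x} : Set MG)) :=
    fun h => H199.AbMon.seven_not_dvd h hx
  have hc : ∀ {r}, (r = 13 ∨ r = 19 ∨ r = 29 ∨ r = 71) → ¬ r ∣ Nat.card ↥(centralizer ({x} : Set MG)) :=
    fun h => seven_not hK hS hx h
  have hM : ∀ {p k : ℕ}, ¬ p ^ (k + 1) ∣ Nat.card MG → ¬ p ^ (k + 1) ∣ Nat.card ↥(centralizer ({x} : Set MG)) :=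
    fun h h1 => h (h1.trans (Subgroup.card_subgroup_dvd_card _))
  have g := H537.OreM.dvd_card x
  have g := H537.OreM.step (j := 0) (by norm_num) g (H537.OreM.no_pow ho)
  have g := H537.OreM.step (j := 7) (by norm_num) g (H537.OreM.not_three_seven hx ho)
  have g := H537.OreM.step (j := 9) (by norm_num) g (hM (by rw [card_M]; norm_num))
  have g := H537.OreM.step (j := 6) (by norm_num) g (hM (by rw [card_M]; norm_num))
  have g := H537.OreM.step (j := 0) (by norm_num) g (H537.OreM.no_pow h11)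
  have g := H537.OreM.step (j := 0) (by norm_num) g (H537.OreM.no_pow (hc (r := 13) (by simp)))
  have g := H537.OreM.step (j := 1) (by norm_num) g (hM (by rw [card_M]; norm_num))
  have g := H537.OreM.step (j := 0) (by norm_num) g (H537.OreM.no_pow (hc (r := 19) (by simp)))
  have g := H537.OreM.step (j := 0) (by norm_num) g (H537.OreM.no_pow (hb (r := 23) (by simp)))
  have g := H537.OreM.step (j := 0) (by norm_num) g (H537.OreM.no_pow (hc (r := 29) (by simp)))
  have g := H537.OreM.step (j := 0) (by norm_num) g (H537.OreM.no_pow (hb (r := 31) (by simp)))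
  have g := H537.OreM.step (j := 0) (by norm_num) g (H537.OreM.no_pow (hb (r := 41) (by simp)))
  have g := H537.OreM.step (j := 0) (by norm_num) g (H537.OreM.no_pow (hb (r := 47) (by simp)))
  have g := H537.OreM.step (j := 0) (by norm_num) g (H537.OreM.no_pow (hb (r := 59) (by simp)))
  have g := H537.OreM.step (j := 0) (by norm_num) g (H537.OreM.no_pow (hc (r := 71) (by simp)))
  by_cases h17 : 17 ∣ Nat.card ↥(centralizer ({x} : Set MG))
  · have h5 : ¬ 5 ∣ Nat.card ↥(centralizer ({x} : Set MG)) := fun h5 => by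
      refine not_both (x := x) (p := 5) (q := 17) (n := 9) (m := 1) ho (by norm_num) (by norm_num) (by norm_num)
        (hM (by rw [card_M]; norm_num)) (by intro i h1 h2; interval_cases i <;> norm_num)
        (hM (by rw [card_M]; norm_num)) (by intro i h1 h2; interval_cases i; norm_num) (fun s hs => ?_) h5 h17
      have h1 : Nat.card ↥(centralizer ({s} : Set MG)) = 168 * 17 := H715.Mon.Exact.card17 hS hs
      rw [h1]
      norm_num
    have g1 : Nat.card ↥(centralizer ({x} : Set MG)) ∣ 5 ^ 9 * (3 ^ 7 * 7 ^ 6 * 17) := g.trans (by norm_num)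
    have g2 := H199.AbTool.dvd_of_not_dvd (by norm_num) h5 g1
    exact (Nat.le_of_dvd (by norm_num) g2).trans (by norm_num)
  · have g1 : Nat.card ↥(centralizer ({x} : Set MG)) ∣ 17 ^ 1 * (3 ^ 7 * 7 ^ 6 * 5 ^ 9) := g.trans (by norm_num)
    have g2 := H199.AbTool.dvd_of_not_dvd (by norm_num) h17 g1
    exact (Nat.le_of_dvd (by norm_num) g2).trans (by norm_num)

/-- **Elements of prime order at least 5 of the Monster.** -/
theorem hB (hK : AllKnown.{0}) (hS : H715.Mon.Grp.SThree.{0}) {q : ℕ} (hq : q.Prime) (hq5 : 5 ≤ q) {x : MG}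
    (hx : orderOf x = q) : Nat.card ↥(centralizer ({x} : Set MG)) ≤ 2 * 10 ^ 15 := by
  have h3 : H241.NH.Three.{0} := H241.NH.three_of fun X hX hC => hS _ X hX hC
  refine MonBnd.card_le_of hK hS (by norm_num) (fun x hx he => card5 hK hS hx he)
    (fun x hx => card7 hK hS hx) (fun x hx => (MonEleven.card_le hS hx).trans (by norm_num))
    (fun x hx => card13 hK hS hx) (fun x hx => ?_) hq hq5 hx
  rw [H979.OreM.cent_41 hK h3 hx]
  norm_num

end Cfsg.Agent.H58.MonFin
end
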